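import Groth.Agent.FlatStage.AlgGlobal
import Groth.Agent.WLocalLib.Strict

/-!
# Flatness along a fibre descends to a stage of a directed colimit
-/

set_option autoImplicit false
set_option linter.style.haveILetI false
set_option backward.isDefEq.respectTransparency false
set_option backward.isDefEq.respectTransparency.types false
set_option maxHeartbeats 1000000
set_option synthInstance.maxHeartbeats 100000

universe u

open TensorProduct

noncomputable section

namespace Groth.Agent.PureColimLib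

attribute [local instance] Algebra.TensorProduct.rightAlgebra

/-- A prime of a base change with given contractions. -/
theorem exists_prime_over {A' B' A B : Type u} [CommRing A'] [CommRing B'] [CommRing A] [CommRing B] [Algebra A' B'] [Algebra A' A]
    [Algebra A B] [Algebra B' B] [Algebra A' B] [IsScalarTower A' A B] [IsScalarTower A' B' B] [Algebra.IsPushout A' A B' B]
    (p : Ideal A) [p.IsPrime] (q : Ideal B') [q.IsPrime] (h : p.comap (algebraMap A' A) = q.comap (algebraMap A' B')) :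
    ∃ Q : Ideal B, Q.IsPrime ∧ Q.comap (algebraMap A B) = p ∧ Q.comap (algebraMap B' B) = q := by
  obtain ⟨P, hP₁, hP₂⟩ := WLocalLib.exists_prime_tensor (A := A') (B := A) (C := B') ⟨p, inferInstance⟩ ⟨q, inferInstance⟩
    (PrimeSpectrum.ext h)
  let e := Algebra.IsPushout.equiv A' A B' B
  refine ⟨P.asIdeal.comap e.symm.toRingEquiv.toRingHom, inferInstance, ?_, ?_⟩
  · rw [Ideal.comap_comap, show e.symm.toRingEquiv.toRingHom.comp (algebraMap A B) = Algebra.TensorProduct.includeLeftRingHom from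
      RingHom.ext fun a => Algebra.IsPushout.equiv_symm_algebraMap_left A' A B' B a]
    exact congrArg PrimeSpectrum.asIdeal hP₁
  · rw [Ideal.comap_comap, show e.symm.toRingEquiv.toRingHom.comp (algebraMap B' B) =
      (Algebra.TensorProduct.includeRight : B' →ₐ[A'] A ⊗[A'] B').toRingHom from
      RingHom.ext fun a => Algebra.IsPushout.equiv_symm_algebraMap_right A' A B' B a]
    exact congrArg PrimeSpectrum.asIdeal hP₂

variable {A₀ : Type u} [CommRing A₀] {ι : Type u} [Preorder ι] {G : ι → Type u} [∀ i, CommRing (G i)] [∀ i, Algebra A₀ (G i)]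
  {g : ∀ i j, i ≤ j → G i →ₐ[A₀] G j}
  {A : Type u} [CommRing A] [Algebra A₀ A] [∀ i, Algebra (G i) A] [∀ i, IsScalarTower A₀ (G i) A]
  (hcolim : FlatCA.IsDirectedColimitRing G (fun i j h => (g i j h).toRingHom) A)
  {B₀ : Type u} [CommRing B₀] [Algebra A₀ B₀] [Algebra.FinitePresentation A₀ B₀]
  (N₀ : Type u) [AddCommGroup N₀] [Module B₀ N₀] [Module A₀ N₀] [IsScalarTower A₀ B₀ N₀] [Module.FinitePresentation B₀ N₀]
  {B : Type u} [CommRing B] [Algebra A B] [Algebra B₀ B] [Algebra A₀ B] [IsScalarTower A₀ A B] [IsScalarTower A₀ B₀ B]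
  [Algebra.IsPushout A₀ A B₀ B]
  (N : Type u) [AddCommGroup N] [Module B N] [Module A N] [IsScalarTower A B N] [Module B₀ N] [IsScalarTower B₀ B N]

include hcolim in
/-- A module flat along a fibre of the limit is flat along the fibre at some stage. -/
theorem exists_flatFibre_stage (f : N₀ →ₗ[B₀] N) (hf : IsBaseChange B f) (p : Ideal A) [p.IsPrime]
    (hflat : ∀ (q : Ideal B) [q.IsPrime], q.LiesOver p → FlatCA.FlatAt A q N) (i₀ : ι) :
    ∃ k, i₀ ≤ k ∧ ∀ (q : Ideal (G k ⊗[A₀] B₀)) [q.IsPrime], q.LiesOver (p.comap (algebraMap (G k) A)) →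
      FlatCA.FlatAt (G k) q ((G k ⊗[A₀] B₀) ⊗[B₀] N₀) := by
  classical
  let Sys := FlatStage.sysOfDirected hcolim
  let β : ∀ k, G k ⊗[A₀] B₀ →ₐ[A₀] B := fun k =>
    Algebra.TensorProduct.lift ((IsScalarTower.toAlgHom A₀ A B).comp (IsScalarTower.toAlgHom A₀ (G k) A))
      (IsScalarTower.toAlgHom A₀ B₀ B) fun _ _ => Commute.all _ _
  have hβl : ∀ (k : ι) (r : G k), β k (algebraMap (G k) (G k ⊗[A₀] B₀) r) = algebraMap A B (algebraMap (G k) A r) := fun k r => by
    show Algebra.TensorProduct.lift _ _ _ (r ⊗ₜ[A₀] (1 : B₀)) = _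
    simp
  have hβr : ∀ (k : ι) (b : B₀), β k (algebraMap B₀ (G k ⊗[A₀] B₀) b) = algebraMap B₀ B b := fun k b => by
    show Algebra.TensorProduct.lift _ _ _ ((1 : G k) ⊗ₜ[A₀] b) = _
    simp
  let F : Set (PrimeSpectrum B) := PrimeSpectrum.comap (algebraMap A B) ⁻¹' {⟨p, inferInstance⟩}
  have hF : IsCompact F := by
    rw [show F = Set.range (fun x => ((PrimeSpectrum.preimageEquivFiber A B ⟨p, inferInstance⟩).symm x).1) by
      ext Q
      refine ⟨fun hQ => ⟨PrimeSpectrum.preimageEquivFiber A B ⟨p, inferInstance⟩ ⟨Q, hQ⟩, by simp⟩, ?_⟩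
      rintro ⟨x, rfl⟩
      exact ((PrimeSpectrum.preimageEquivFiber A B ⟨p, inferInstance⟩).symm x).2]
    exact isCompact_range (continuous_subtype_val.comp
      (PrimeSpectrum.preimageHomeomorphFiber A B ⟨p, inferInstance⟩).symm.continuous)
  have hpt : ∀ q : F, ∃ k, PrimeSpectrum.comap (β k).toRingHom q.1 ∈ FlatStage.locus (A := A₀) B₀ N₀ (G k) := fun q => by
    haveI : q.1.asIdeal.LiesOver p := ⟨(congrArg PrimeSpectrum.asIdeal q.2).symm⟩
    haveI : Module.Flat A (LocalizedModule q.1.asIdeal.primeCompl N) := hflat q.1.asIdeal inferInstance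
    obtain ⟨k, -, hk⟩ := FlatStage.exists_stage (A := A₀) (B := B₀) (M := N₀) Sys i₀ B N f hf q.1
    dsimp only [Sys, FlatStage.sysOfDirected] at k hk
    exact ⟨k, hk (G k ⊗[A₀] B₀) ((G k ⊗[A₀] B₀) ⊗[B₀] N₀) (TensorProduct.mk B₀ _ N₀ 1)
      (TensorProduct.isBaseChange B₀ N₀ _) (β k).toRingHom (hβl k) (hβr k)⟩
  choose idx hidx using hpt
  obtain ⟨t, ht⟩ := hF.elim_finite_subcover
    (fun q : F => PrimeSpectrum.comap (β (idx q)).toRingHom ⁻¹' FlatStage.locus (A := A₀) B₀ N₀ (G (idx q)))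
    (fun q => (FlatStage.isOpen_locus _).preimage (PrimeSpectrum.continuous_comap _))
    (fun q hq => Set.mem_iUnion.2 ⟨⟨q, hq⟩, hidx ⟨q, hq⟩⟩)
  haveI := hcolim.1
  haveI := hcolim.2.1
  obtain ⟨k, hk⟩ := Finset.exists_le (insert i₀ (t.image idx))
  refine ⟨k, hk i₀ (Finset.mem_insert_self _ _), fun q _ hq => ?_⟩
  letI : Algebra (G k ⊗[A₀] B₀) B := (β k).toRingHom.toAlgebra
  letI : Algebra (G k) B := ((algebraMap A B).comp (algebraMap (G k) A)).toAlgebra
  haveI : IsScalarTower (G k) A B := .of_algebraMap_eq' rfl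
  haveI : IsScalarTower (G k) (G k ⊗[A₀] B₀) B := .of_algebraMap_eq fun r => (hβl k r).symm
  haveI : IsScalarTower B₀ (G k ⊗[A₀] B₀) B := .of_algebraMap_eq fun r => (hβr k r).symm
  haveI : IsScalarTower A₀ (G k) B := IsScalarTower.of_algebraMap_eq (R := A₀) (S := G k) (A := B) fun a => by
    rw [IsScalarTower.algebraMap_apply (G k) A B, ← IsScalarTower.algebraMap_apply A₀ (G k) A, ← IsScalarTower.algebraMap_apply]
  haveI : Algebra.IsPushout (G k) A (G k ⊗[A₀] B₀) B :=
    (Algebra.IsPushout.comp_iff (R := A₀) (S := G k) (R' := B₀) (S' := G k ⊗[A₀] B₀) (T := A) (T' := B)).1 inferInstance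
  obtain ⟨Q, hQ, hQp, hQq⟩ := exists_prime_over (A' := G k) (B' := G k ⊗[A₀] B₀) (A := A) (B := B) p q hq.over
  let Q' : F := ⟨⟨Q, hQ⟩, PrimeSpectrum.ext hQp⟩
  obtain ⟨i, hi, hiQ⟩ : ∃ i ∈ t, PrimeSpectrum.comap (β (idx i)).toRingHom Q'.1 ∈ FlatStage.locus (A := A₀) B₀ N₀ (G (idx i)) := by
    obtain ⟨i, hi⟩ := Set.mem_iUnion.1 (ht Q'.2)
    obtain ⟨hit, hiQ⟩ := Set.mem_iUnion.1 hi
    exact ⟨i, hit, hiQ⟩
  have hik : idx i ≤ k := hk _ (Finset.mem_insert_of_mem (Finset.mem_image_of_mem _ hi))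
  have hT : (β k).comp (Algebra.TensorProduct.map (g _ _ hik) (AlgHom.id A₀ B₀)) = β (idx i) := by
    refine Algebra.TensorProduct.ext' fun r b => ?_
    simp [β, show algebraMap (G k) A (g _ _ hik r) = algebraMap (G (idx i)) A r from
      RingHom.congr_fun (hcolim.2.2.2.2.1 _ _ hik) r]
  have hmem : PrimeSpectrum.comap (β k).toRingHom Q'.1 ∈ FlatStage.locus (A := A₀) B₀ N₀ (G k) := by
    refine FlatStage.comap_locus_le (g _ _ hik) ?_
    rw [Set.mem_preimage, ← PrimeSpectrum.comap_comp_apply]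
    rw [← hT] at hiQ
    exact hiQ
  rw [show PrimeSpectrum.comap (β k).toRingHom Q'.1 = ⟨q, inferInstance⟩ from PrimeSpectrum.ext hQq] at hmem
  exact hmem

end Groth.Agent.PureColimLib
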