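import Groth.Agent.PureCritLib.ImpLim
import Mathlib.RingTheory.Extension.Presentation.Core

/-!
# Finitely presented models over a stage of a directed colimit
-/

set_option autoImplicit false
set_option linter.style.haveILetI false
set_option backward.isDefEq.respectTransparency false
set_option backward.isDefEq.respectTransparency.types false
set_option maxHeartbeats 1000000
set_option synthInstance.maxHeartbeats 100000

universe u

open TensorProduct

noncomputable section

namespace Groth.Agent.PureColimLib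

attribute [local instance] Algebra.TensorProduct.rightAlgebra

variable {ι : Type u} [Preorder ι] {G : ι → Type u} [∀ i, CommRing (G i)] {g : ∀ i j, i ≤ j → G i →+* G j}
  {A : Type u} [CommRing A] [∀ i, Algebra (G i) A] (hcolim : FlatCA.IsDirectedColimitRing G g A)

include hcolim in
/-- Finitely many elements of the colimit come from any large enough stage. -/
theorem exists_stage_finset (i₀ : ι) (F : Finset A) : ∃ j, i₀ ≤ j ∧ (F : Set A) ⊆ Set.range (algebraMap (G j) A) := by
  classical
  haveI := hcolim.1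
  haveI := hcolim.2.1
  choose idx x hx using hcolim.2.2.2.2.2.1
  obtain ⟨j, hj⟩ := Finset.exists_le (insert i₀ (F.image idx))
  refine ⟨j, hj i₀ (Finset.mem_insert_self _ _), fun a ha => ?_⟩
  exact ⟨g _ _ (hj _ (Finset.mem_insert_of_mem (Finset.mem_image_of_mem _ (Finset.mem_coe.1 ha)))) (x a),
    (RingHom.congr_fun (hcolim.2.2.2.2.1 _ _ _) _).trans (hx a)⟩

/-- A quotient of a free module is a base change of the quotient by lifted relations. -/
theorem exists_module_model {B₁ B : Type u} [CommRing B₁] [CommRing B] [Algebra B₁ B] (N : Type u) [AddCommGroup N] [Module B N]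
    [Module B₁ N] [IsScalarTower B₁ B N] {m k : ℕ} (π : (Fin m → B) →ₗ[B] N) (hπ : Function.Surjective π)
    (w : Fin k → Fin m → B₁)
    (hker : LinearMap.ker π = Submodule.span B (Set.range fun l => algebraMap B₁ B ∘ w l)) :
    ∃ f : ((Fin m → B₁) ⧸ Submodule.span B₁ (Set.range w)) →ₗ[B₁] N, IsBaseChange B f := by
  classical
  let c : (Fin m → B₁) →ₗ[B₁] (Fin m → B) := (Algebra.linearMap B₁ B).compLeft (Fin m)
  have hc : ∀ v, c v = algebraMap B₁ B ∘ v := fun v => rfl
  let f₀ : (Fin m → B₁) →ₗ[B₁] N := (π.restrictScalars B₁).comp c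
  have hw : Submodule.span B₁ (Set.range w) ≤ LinearMap.ker f₀ := by
    rw [Submodule.span_le]
    rintro _ ⟨l, rfl⟩
    show π (c (w l)) = 0
    have : c (w l) ∈ LinearMap.ker π := by
      rw [hker, hc]
      exact Submodule.subset_span ⟨l, rfl⟩
    exact this
  let f := (Submodule.span B₁ (Set.range w)).liftQ f₀ hw
  refine ⟨f, IsBaseChange.of_lift_unique _ fun Q _ _ _ _ q => ?_⟩
  letI : AddCommGroup Q := Module.addCommMonoidToAddCommGroup B (M := Q)
  let e : Fin m → (Fin m → B₁) := fun a => Pi.single a 1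
  let q₀ : (Fin m → B₁) →ₗ[B₁] Q := q.comp (Submodule.mkQ _)
  let L : (Fin m → B) →ₗ[B] Q := Fintype.linearCombination B fun a => q₀ (e a)
  have hL : ∀ v, L (c v) = q₀ v := fun v => by
    conv_rhs => rw [← Finset.univ_sum_single v, map_sum]
    show ∑ a, algebraMap B₁ B (v a) • q₀ (e a) = _
    refine Finset.sum_congr rfl fun a _ => ?_
    rw [algebraMap_smul, ← map_smul, ← Pi.single_smul, smul_eq_mul, mul_one]
  have hkerL : LinearMap.ker π ≤ LinearMap.ker L := by
    rw [hker, Submodule.span_le]
    rintro _ ⟨l, rfl⟩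
    show L (c (w l)) = 0
    rw [hL]
    show q (Submodule.mkQ _ (w l)) = 0
    rw [Submodule.mkQ_apply, (Submodule.Quotient.mk_eq_zero _).2 (Submodule.subset_span (Set.mem_range_self l)), map_zero]
  let L' : ((Fin m → B) ⧸ LinearMap.ker π) →ₗ[B] Q := Submodule.liftQ (LinearMap.ker π) L hkerL
  let T : N →ₗ[B] Q := L' ∘ₗ (π.quotKerEquivOfSurjective hπ).symm.toLinearMap
  have hT : ∀ v, T (π v) = L v := fun v => by
    show L' ((π.quotKerEquivOfSurjective hπ).symm (π v)) = L v
    rw [show π v = π.quotKerEquivOfSurjective hπ (Submodule.Quotient.mk v) from rfl, LinearEquiv.symm_apply_apply]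
    rfl
  have key : ∀ v, f (Submodule.mkQ _ v) = π (c v) := fun v => rfl
  refine ⟨T, Submodule.linearMap_qext _ (LinearMap.ext fun v => ?_), fun T' hT' => LinearMap.ext fun n => ?_⟩
  · show T (π (c v)) = _
    rw [hT, hL]
  · obtain ⟨v, rfl⟩ := hπ n
    rw [hT]
    show (T'.comp π) v = L v
    congr 1
    refine (Pi.basisFun B (Fin m)).ext fun a => ?_
    rw [Pi.basisFun_apply, Fintype.linearCombination_apply_single, one_smul, LinearMap.comp_apply]
    have h1 := LinearMap.congr_fun hT' (Submodule.mkQ _ (e a))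
    rw [LinearMap.comp_apply, key] at h1
    refine Eq.trans (congrArg (fun x => T' (π x)) ?_) h1
    funext b
    simp [c, e, Pi.single_apply, apply_ite (algebraMap B₁ B)]

/-- An algebra model from an isomorphism. -/
theorem exists_algebra_model_aux {R A B B₀ : Type u} [CommRing R] [CommRing A] [CommRing B] [CommRing B₀] [Algebra R A]
    [Algebra A B] [Algebra R B] [IsScalarTower R A B] [Algebra R B₀] [Algebra.FinitePresentation R B₀]
    (e : A ⊗[R] B₀ ≃ₐ[A] B) :
    ∃ (B₀ : Type u) (_ : CommRing B₀) (_ : Algebra R B₀) (_ : Algebra B₀ B) (_ : Algebra R B)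
      (_ : IsScalarTower R A B) (_ : IsScalarTower R B₀ B),
      Algebra.FinitePresentation R B₀ ∧ Algebra.IsPushout R A B₀ B := by
  letI : Algebra B₀ B := (e.toRingEquiv.toRingHom.comp (algebraMap B₀ (A ⊗[R] B₀))).toAlgebra
  haveI : IsScalarTower R B₀ B := IsScalarTower.of_algebraMap_eq (R := R) (S := B₀) (A := B) fun a => by
    show _ = e (algebraMap B₀ (A ⊗[R] B₀) (algebraMap R B₀ a))
    rw [← IsScalarTower.algebraMap_apply, IsScalarTower.algebraMap_apply R A (A ⊗[R] B₀), e.commutes,
      ← IsScalarTower.algebraMap_apply]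
  exact ⟨B₀, inferInstance, inferInstance, inferInstance, inferInstance, inferInstance, inferInstance, inferInstance,
    Algebra.IsPushout.of_equiv (R := R) (R' := A) (S := B₀) (S' := A ⊗[R] B₀) e rfl⟩

include hcolim in
/-- A finitely presented algebra over the colimit comes from a stage. -/
theorem exists_algebra_model {B : Type u} [CommRing B] [Algebra A B] [Algebra.FinitePresentation A B] :
    ∃ (i : ι) (B₀ : Type u) (_ : CommRing B₀) (_ : Algebra (G i) B₀) (_ : Algebra B₀ B) (_ : Algebra (G i) B)
      (_ : IsScalarTower (G i) A B) (_ : IsScalarTower (G i) B₀ B),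
      Algebra.FinitePresentation (G i) B₀ ∧ Algebra.IsPushout (G i) A B₀ B := by
  classical
  let P := Algebra.Presentation.ofFinitePresentation A B
  obtain ⟨i₀, -, hi₀⟩ := exists_stage_finset hcolim hcolim.2.1.some P.finite_coeffs.toFinset
  rw [Set.Finite.coe_toFinset] at hi₀
  letI : Algebra (G i₀) B := ((algebraMap A B).comp (algebraMap (G i₀) A)).toAlgebra
  haveI : IsScalarTower (G i₀) A B := .of_algebraMap_eq' rfl
  haveI : P.HasCoeffs (G i₀) := ⟨hi₀⟩
  let B₀ := P.ModelOfHasCoeffs (G i₀)
  refine ⟨i₀, ?_⟩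
  refine exists_algebra_model_aux (B₀ := B₀) ?_
  exact P.tensorModelOfHasCoeffsEquiv (G i₀)

include hcolim in
/-- A finitely presented algebra and module over the colimit come from a stage. -/
theorem exists_model {B : Type u} [CommRing B] [Algebra A B] [Algebra.FinitePresentation A B]
    (N : Type u) [AddCommGroup N] [Module B N] [Module.FinitePresentation B N] :
    ∃ (i : ι) (B₁ N₁ : Type u) (_ : CommRing B₁) (_ : Algebra (G i) B₁) (_ : Algebra B₁ B) (_ : Algebra (G i) B)
      (_ : IsScalarTower (G i) A B) (_ : IsScalarTower (G i) B₁ B)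
      (_ : AddCommGroup N₁) (_ : Module B₁ N₁) (_ : Module (G i) N₁) (_ : IsScalarTower (G i) B₁ N₁)
      (_ : Module B₁ N) (_ : IsScalarTower B₁ B N) (f : N₁ →ₗ[B₁] N),
      Algebra.FinitePresentation (G i) B₁ ∧ Algebra.IsPushout (G i) A B₁ B ∧ Module.FinitePresentation B₁ N₁ ∧ IsBaseChange B f := by
  classical
  obtain ⟨i₀, B₀, _, _, _, _, _, _, hfp, hpo⟩ := exists_algebra_model hcolim (B := B)
  haveI := hfp
  haveI := hpo
  haveI : Algebra.IsPushout (G i₀) B₀ A B := Algebra.IsPushout.symm inferInstance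
  -- the relations
  obtain ⟨m, K, eN, hK⟩ := Module.FinitePresentation.exists_fin B N
  obtain ⟨k, w, hw⟩ := Submodule.fg_iff_exists_fin_generating_family.1 hK
  have hlift := fun lb : Fin k × Fin m => PureCritLib.exists_finset_lift (A := G i₀) (B := B₀) (A' := A) (B' := B) (w lb.1 lb.2)
  choose F hF using hlift
  obtain ⟨j, hij, hj⟩ := exists_stage_finset hcolim i₀ (Finset.univ.biUnion F)
  letI : Algebra (G i₀) (G j) := (g i₀ j hij).toAlgebra
  haveI : IsScalarTower (G i₀) (G j) A := .of_algebraMap_eq fun a => (RingHom.congr_fun (hcolim.2.2.2.2.1 i₀ j hij) a).symm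
  let φ := IsScalarTower.toAlgHom (G i₀) (G j) A
  let B₁ := G j ⊗[G i₀] B₀
  let τ := PureCritLib.tensorTo (A := G i₀) (B := B₀) (A' := A) (B' := B) φ
  choose w₁ hw₁ using fun lb : Fin k × Fin m => hF lb (G j) φ (fun a ha => hj (Finset.mem_biUnion.2 ⟨lb, Finset.mem_univ _, ha⟩))
  letI : Algebra B₁ B := τ.toRingHom.toAlgebra
  letI : Algebra (G j) B := ((algebraMap A B).comp (algebraMap (G j) A)).toAlgebra
  haveI : IsScalarTower (G j) A B := .of_algebraMap_eq' rfl
  haveI : IsScalarTower (G j) B₁ B := IsScalarTower.of_algebraMap_eq (R := G j) (S := B₁) (A := B) fun a => by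
    show _ = τ (a ⊗ₜ[G i₀] (1 : B₀))
    rw [PureCritLib.tensorTo_tmul, map_one, mul_one]
    rfl
  haveI : IsScalarTower B₀ B₁ B := IsScalarTower.of_algebraMap_eq (R := B₀) (S := B₁) (A := B) fun a => by
    show _ = τ ((1 : G j) ⊗ₜ[G i₀] a)
    rw [PureCritLib.tensorTo_tmul, map_one, map_one, one_mul]
  haveI : IsScalarTower (G i₀) (G j) B := IsScalarTower.of_algebraMap_eq (R := G i₀) (S := G j) (A := B) fun a => by
    rw [IsScalarTower.algebraMap_apply (G i₀) A B, IsScalarTower.algebraMap_apply (G i₀) (G j) A, ← IsScalarTower.algebraMap_apply (G j) A B]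
  haveI : Algebra.IsPushout (G j) A B₁ B :=
    (Algebra.IsPushout.comp_iff (R := G i₀) (S := G j) (R' := B₀) (S' := B₁) (T := A) (T' := B)).1 inferInstance
  letI : Module B₁ N := Module.compHom N (algebraMap B₁ B)
  haveI : IsScalarTower B₁ B N := .of_algebraMap_smul fun _ _ => rfl
  let π : (Fin m → B) →ₗ[B] N := eN.symm.toLinearMap ∘ₗ K.mkQ
  let wv : Fin k → Fin m → B₁ := fun l b => w₁ (l, b)
  obtain ⟨f, hf⟩ := exists_module_model (B₁ := B₁) N π (eN.symm.surjective.comp K.mkQ_surjective) wv (by
    rw [LinearEquiv.ker_comp, Submodule.ker_mkQ, ← hw]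
    refine congrArg _ (congrArg Set.range (funext fun l => funext fun b => ?_))
    exact (hw₁ (l, b)).symm)
  refine ⟨j, B₁, _, inferInstance, inferInstance, inferInstance, inferInstance, inferInstance, inferInstance,
    inferInstance, inferInstance, inferInstance, inferInstance, inferInstance, inferInstance, f,
    inferInstance, inferInstance, ?_, hf⟩
  · exact Module.finitePresentation_of_surjective (Submodule.span B₁ (Set.range wv)).mkQ (Submodule.mkQ_surjective _)
      (by rw [Submodule.ker_mkQ]; exact Submodule.fg_span (Set.finite_range _))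

end Groth.Agent.PureColimLib
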