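import Groth.Agent.PureColimLib.Flat
import Groth.Agent.PureCritLib.Nbhd
import Groth.Agent.PureCritLib.Descent
import Groth.Agent.PureCritLib.Cover
import Groth.Agent.S9005

/-!
# Purity at a stage from a killing element
-/

set_option autoImplicit false
set_option linter.style.haveILetI false
set_option backward.isDefEq.respectTransparency false
set_option backward.isDefEq.respectTransparency.types false
set_option maxHeartbeats 1000000
set_option synthInstance.maxHeartbeats 100000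

universe u

open TensorProduct

noncomputable section

namespace Groth.Agent.PureColimLib

attribute [local instance] Algebra.TensorProduct.rightAlgebra

/-- If no point below `p'` maps to the image of `Spec T`, some element outside `p'` kills the product. -/
theorem exists_killing {R₀ T R : Type u} [CommRing R₀] [CommRing T] [CommRing R] [Algebra R₀ T] [Algebra R₀ R]
    (p' : Ideal R) [p'.IsPrime]
    (h : ∀ (t : Ideal R) [t.IsPrime], t ≤ p' → ∀ y : PrimeSpectrum T, y.asIdeal.comap (algebraMap R₀ T) ≠ t.comap (algebraMap R₀ R)) :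
    ∃ s ∉ p', algebraMap R (R ⊗[R₀] T) s = 0 := by
  by_contra hall
  push Not at hall
  obtain ⟨P, hP, -, hd⟩ := Ideal.exists_le_prime_disjoint (⊥ : Ideal (R ⊗[R₀] T)) (Algebra.algebraMapSubmonoid _ p'.primeCompl)
    (Set.disjoint_left.2 fun x hx ⟨s, hs, hsx⟩ => hall s hs (hsx.trans (Ideal.mem_bot.1 hx)))
  haveI := hP
  have hle : P.comap (algebraMap R (R ⊗[R₀] T)) ≤ p' := fun r hr => by_contra fun hrp =>
    Set.disjoint_left.1 hd hr ⟨r, hrp, rfl⟩
  refine h _ hle ⟨P.comap (algebraMap T (R ⊗[R₀] T)), inferInstance⟩ ?_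
  show (P.comap (algebraMap T (R ⊗[R₀] T))).comap (algebraMap R₀ T) = _
  rw [Ideal.comap_comap, Ideal.comap_comap, ← IsScalarTower.algebraMap_eq, ← IsScalarTower.algebraMap_eq]

/-- Points avoiding a killing element do not map to the image of `Spec T`. -/
theorem ne_of_killing {R₀ T R : Type u} [CommRing R₀] [CommRing T] [CommRing R] [Algebra R₀ T] [Algebra R₀ R]
    {s : R} (hs : algebraMap R (R ⊗[R₀] T) s = 0) (t : Ideal R) [t.IsPrime] (hst : s ∉ t) (y : PrimeSpectrum T) :
    y.asIdeal.comap (algebraMap R₀ T) ≠ t.comap (algebraMap R₀ R) := fun h => by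
  obtain ⟨P, hP, hPt, -⟩ := exists_prime_over (A' := R₀) (B' := T) (A := R) (B := R ⊗[R₀] T) t y.asIdeal h.symm
  refine hst (hPt.le ?_)
  show algebraMap R (R ⊗[R₀] T) s ∈ P
  rw [hs]
  exact P.zero_mem

variable {R₀ BR R' BR' : Type u} [CommRing R₀] [CommRing BR] [CommRing R'] [CommRing BR'] [Algebra R₀ BR] [Algebra R₀ R']
  [Algebra R' BR'] [Algebra BR BR'] [Algebra R₀ BR'] [IsScalarTower R₀ R' BR'] [IsScalarTower R₀ BR BR']
  [Algebra.IsPushout R₀ R' BR BR'] [Algebra.FiniteType R₀ BR]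
  {NR : Type u} [AddCommGroup NR] [Module BR NR] [Module R₀ NR] [IsScalarTower R₀ BR NR]
  {N' : Type u} [AddCommGroup N'] [Module BR' N'] [Module BR N'] [IsScalarTower BR BR' N'] [Module R' N'] [IsScalarTower R' BR' N']
  {m : ℕ} (G : Fin m → BR) (f : NR →ₗ[BR] N')

omit [Algebra.FiniteType R₀ BR] in
theorem liesOver_under (t : Ideal R') (Q : Ideal BR') [hQ : Q.LiesOver t] :
    (Q.under BR).LiesOver (t.comap (algebraMap R₀ R')) := ⟨by
  rw [Ideal.under_def, Ideal.under_def, Ideal.comap_comap, ← IsScalarTower.algebraMap_eq,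
    IsScalarTower.algebraMap_eq R₀ R' BR', ← Ideal.comap_comap]
  exact congrArg _ hQ.over⟩

/-- The good set pulls back: associated points upstairs avoid the closed set. -/
theorem exists_notMem_of_good (hf : IsBaseChange BR' f) (t : Ideal R') [t.IsPrime]
    (hgood : ∀ P ∈ associatedPrimes ((t.comap (algebraMap R₀ R')).Fiber BR) (FlatCA.fiberMod (t.comap (algebraMap R₀ R')) BR NR),
      ∃ j, CAlgFib.ι (t.comap (algebraMap R₀ R')) (G j) ∉ P)
    (Q : Ideal BR') [Q.IsPrime] [Q.LiesOver t]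
    (hQ : FlatCA.fiberIdeal t Q ∈ associatedPrimes (t.Fiber BR') (FlatCA.fiberMod t BR' N')) :
    ∃ j, G j ∉ Q.under BR := by
  haveI : Algebra.FiniteType R' BR' := Algebra.FiniteType.equiv inferInstance (Algebra.IsPushout.equiv R₀ R' BR BR')
  haveI : t.LiesOver (t.comap (algebraMap R₀ R')) := ⟨rfl⟩
  haveI := liesOver_under (R₀ := R₀) (BR := BR) t Q
  obtain ⟨j, hj⟩ := hgood _ ((RelAssLib.fibre_ass_baseChange f hf (t.comap (algebraMap R₀ R')) t).2.1 Q hQ)
  exact ⟨j, fun hm => hj (Ideal.mem_map_of_mem _ hm)⟩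

/-- The good set descends. -/
theorem good_of_notMem (hf : IsBaseChange BR' f) (t : Ideal R') [t.IsPrime]
    (h : ∀ (Q : Ideal BR') [Q.IsPrime], Q.LiesOver t →
      FlatCA.fiberIdeal t Q ∈ associatedPrimes (t.Fiber BR') (FlatCA.fiberMod t BR' N') → ∃ j, G j ∉ Q.under BR) :
    ∀ P ∈ associatedPrimes ((t.comap (algebraMap R₀ R')).Fiber BR) (FlatCA.fiberMod (t.comap (algebraMap R₀ R')) BR NR),
      ∃ j, CAlgFib.ι (t.comap (algebraMap R₀ R')) (G j) ∉ P := by
  intro P hP
  haveI : Algebra.FiniteType R' BR' := Algebra.FiniteType.equiv inferInstance (Algebra.IsPushout.equiv R₀ R' BR BR')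
  haveI := hP.1
  let t₀ := t.comap (algebraMap R₀ R')
  haveI : t.LiesOver t₀ := ⟨rfl⟩
  haveI := FibAssLib.comap_liesOver (S := BR) t₀ P
  let Q₀ := P.comap (CAlgFib.ι (S := BR) t₀)
  obtain ⟨Q, hQp, hQt, hQQ, hQ⟩ := (RelAssLib.fibre_ass_baseChange f hf t₀ t).2.2 Q₀
    (by rw [FibAssLib.eq_fiberIdeal_of_comap t₀ rfl]; exact hP)
  obtain ⟨j, hj⟩ := h Q hQt hQ
  exact ⟨j, fun hm => hj (by rw [hQQ]; exact hm)⟩

variable {S₀ : Type u} [CommRing S₀] [Algebra BR S₀] [Algebra R₀ S₀] [IsScalarTower R₀ BR S₀]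

/-- Universal purity at a stage: over `R'` the associated points below the point lie in the cover. -/
theorem univPure_of_good [Module.Finite BR NR] [Algebra.Etale BR S₀] [Module.Projective R₀ (S₀ ⊗[BR] NR)] (hf : IsBaseChange BR' f)
    (hG : ∀ Q : PrimeSpectrum BR, (∃ j, G j ∉ Q.asIdeal) → Q ∈ Set.range (PrimeSpectrum.comap (algebraMap BR S₀)))
    (q' : Ideal R') [q'.IsPrime]
    (hgood : ∀ (t : Ideal R') [t.IsPrime], t ≤ q' → ∀ P ∈ associatedPrimes ((t.comap (algebraMap R₀ R')).Fiber BR)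
      (FlatCA.fiberMod (t.comap (algebraMap R₀ R')) BR NR), ∃ j, CAlgFib.ι (t.comap (algebraMap R₀ R')) (G j) ∉ P) :
    FlatCA.IsUnivPureAlong R' BR' N' q' := by
  let S' := R' ⊗[R₀] S₀
  letI : Algebra BR S' := ((algebraMap S₀ S').comp (algebraMap BR S₀)).toAlgebra
  haveI : IsScalarTower BR S₀ S' := .of_algebraMap_eq' rfl
  haveI : IsScalarTower R₀ BR S' := IsScalarTower.of_algebraMap_eq (R := R₀) (S := BR) (A := S') fun a => by
    rw [IsScalarTower.algebraMap_apply BR S₀ S', ← IsScalarTower.algebraMap_apply R₀ BR S₀, ← IsScalarTower.algebraMap_apply R₀ S₀ S']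
  let τ : BR' →ₐ[R₀] S' := Algebra.pushoutDesc BR' (IsScalarTower.toAlgHom R₀ R' S') (IsScalarTower.toAlgHom R₀ BR S')
    fun _ _ => Commute.all _ _
  letI : Algebra BR' S' := τ.toRingHom.toAlgebra
  haveI : IsScalarTower R' BR' S' := .of_algebraMap_eq fun b => by
    show _ = τ (algebraMap R' BR' b)
    rw [Algebra.pushoutDesc_left]
    rfl
  haveI : IsScalarTower BR BR' S' := .of_algebraMap_eq fun b => by
    show _ = τ (algebraMap BR BR' b)
    rw [Algebra.pushoutDesc_right]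
    rfl
  haveI : Algebra.IsPushout R₀ BR R' BR' := Algebra.IsPushout.symm inferInstance
  haveI : Algebra.IsPushout R₀ S₀ R' S' := Algebra.IsPushout.symm inferInstance
  haveI : Algebra.IsPushout BR S₀ BR' S' :=
    (Algebra.IsPushout.comp_iff (R := R₀) (S := BR) (R' := R') (S' := BR') (T := S₀) (T' := S')).1 inferInstance
  haveI : Algebra.IsPushout BR BR' S₀ S' := Algebra.IsPushout.symm inferInstance
  haveI : Module.Flat BR' S' := Module.Flat.of_linearEquiv (Algebra.IsPushout.equiv BR BR' S₀ S').toLinearEquiv.symm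
  haveI : Algebra.FiniteType R' BR' := Algebra.FiniteType.equiv inferInstance (Algebra.IsPushout.equiv R₀ R' BR BR')
  haveI : Algebra.FiniteType R₀ S₀ := Algebra.FiniteType.trans ‹Algebra.FiniteType R₀ BR› (inferInstance : Algebra.FiniteType BR S₀)
  haveI : Algebra.FiniteType R' S' := inferInstance
  let N'' := S' ⊗[BR'] N'
  haveI : Module.Projective R' N'' := by
    let e₁ : S' ⊗[S₀] (S₀ ⊗[BR] NR) ≃ₗ[R'] R' ⊗[R₀] (S₀ ⊗[BR] NR) :=
      Algebra.IsPushout.cancelBaseChange R₀ R' S₀ S' (S₀ ⊗[BR] NR)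
    let e₂ := (AlgebraTensorModule.cancelBaseChange BR S₀ S' S' NR).restrictScalars R'
    let e₃ : S' ⊗[BR'] (BR' ⊗[BR] NR) ≃ₗ[S'] S' ⊗[BR] NR := AlgebraTensorModule.cancelBaseChange BR BR' S' S' NR
    let e₄ : N'' ≃ₗ[S'] S' ⊗[BR] NR := (AlgebraTensorModule.congr (LinearEquiv.refl S' S') hf.equiv.symm).trans e₃
    exact Module.Projective.of_equiv ((e₁.symm.trans e₂).trans (e₄.restrictScalars R').symm)
  refine PureCritLib.univPure_of_cover (A := R') (B := BR') (B' := S') (TensorProduct.mk BR' S' N' 1)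
    (TensorProduct.isBaseChange BR' N' S') q' ?_ fun t _ htq Q _ hQt hQ => ?_
  · intro A₂ B₂ N₂ _ _ _ _ _ _ _ _ _ _ _ _ _ _ g t' t _ _ P _ himp
    haveI : Module.Finite BR' N' := Module.Finite.equiv hf.equiv
    exact S9005.result (A := R') (B := S') N'' q' A₂ B₂ N₂ g t' t P himp
  · haveI := hQt
    obtain ⟨j, hj⟩ := exists_notMem_of_good G f hf t (hgood t htq) Q hQ
    obtain ⟨y, hy⟩ := hG ⟨Q.under BR, inferInstance⟩ ⟨j, hj⟩
    obtain ⟨Q', hQ', hQ'Q, -⟩ := exists_prime_over (A' := BR) (B' := S₀) (A := BR') (B := S') Q y.asIdeal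
      (congrArg PrimeSpectrum.asIdeal hy).symm
    exact ⟨Q', hQ', hQ'Q⟩

end Groth.Agent.PureColimLib
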