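import Groth.Agent.PureColimLib.Spread
import Groth.Agent.DevLib.ProjCover
import Groth.Agent.DevLib.Descend

/-!
# Purity descends to a stage
-/

set_option autoImplicit false
set_option linter.style.haveILetI false
set_option backward.isDefEq.respectTransparency false
set_option backward.isDefEq.respectTransparency.types false
set_option maxHeartbeats 1500000
set_option synthInstance.maxHeartbeats 100000

universe u

open TensorProduct

noncomputable section

namespace Groth.Agent.PureColimLib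

attribute [local instance] Algebra.TensorProduct.rightAlgebra

/-- Elementary étale neighbourhoods pull back. -/
theorem exists_etaleNhd_tensor {A₀ R₀ A : Type u} [CommRing A₀] [CommRing R₀] [CommRing A] [Algebra A₀ R₀] [Algebra A₀ A]
    {p₀ : Ideal A₀} [p₀.IsPrime] {p₀' : Ideal R₀} [p₀'.IsPrime] (h : FlatCA.IsEtaleNhd A₀ R₀ p₀ p₀')
    (p : Ideal A) [p.IsPrime] [p.LiesOver p₀] :
    ∃ (p' : Ideal (A ⊗[A₀] R₀)) (_ : p'.IsPrime), FlatCA.IsEtaleNhd A (A ⊗[A₀] R₀) p p' ∧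
      p'.comap (algebraMap R₀ (A ⊗[A₀] R₀)) = p₀' := by
  obtain ⟨hR₀, hp₀', hbij⟩ := h
  haveI := hR₀
  haveI := hp₀'
  obtain ⟨Y, hY₁, hY₂⟩ := WLocalLib.exists_prime_tensor (A := A₀) (B := R₀) (C := A) ⟨p₀', inferInstance⟩ ⟨p, inferInstance⟩
    (PrimeSpectrum.ext ((p₀'.over_def p₀).symm.trans (p.over_def p₀)))
  haveI : Y.asIdeal.LiesOver p₀' := ⟨(congrArg PrimeSpectrum.asIdeal hY₁).symm⟩
  haveI : Y.asIdeal.LiesOver p := ⟨(congrArg PrimeSpectrum.asIdeal hY₂).symm⟩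
  have hfrac : DevissLib.FracMod p Y.asIdeal :=
    (DevissLib.fracMod_of_bijective p₀ p₀' hbij).tensor Y.asIdeal p
  let e : A ⊗[A₀] R₀ ≃ₐ[A] R₀ ⊗[A₀] A := Algebra.TensorProduct.commRight A₀ A R₀
  let p' : Ideal (A ⊗[A₀] R₀) := Y.asIdeal.comap e.toRingEquiv.toRingHom
  haveI : p'.IsPrime := inferInstance
  haveI hp' : p'.LiesOver p := ⟨by
    show p = (Y.asIdeal.comap e.toRingEquiv.toRingHom).comap (algebraMap A (A ⊗[A₀] R₀))
    rw [Ideal.comap_comap, show e.toRingEquiv.toRingHom.comp (algebraMap A (A ⊗[A₀] R₀)) = algebraMap A (R₀ ⊗[A₀] A) from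
      RingHom.ext fun a => e.commutes a]
    exact Y.asIdeal.over_def p⟩
  refine ⟨p', inferInstance, ⟨inferInstance, hp', ?_⟩, ?_⟩
  · refine DevissLib.residue_bijective_of_frac p p' fun b => ?_
    obtain ⟨c, a, hc, hca⟩ := hfrac (e b)
    refine ⟨c, a, hc, ?_⟩
    show e (algebraMap A _ c * b - algebraMap A _ a) ∈ Y.asIdeal
    rwa [map_sub, map_mul, e.commutes, e.commutes]
  · show (Y.asIdeal.comap e.toRingEquiv.toRingHom).comap (algebraMap R₀ (A ⊗[A₀] R₀)) = p₀'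
    rw [Ideal.comap_comap, show e.toRingEquiv.toRingHom.comp (algebraMap R₀ (A ⊗[A₀] R₀)) = algebraMap R₀ (R₀ ⊗[A₀] A) from
      RingHom.ext fun a => by
        show Algebra.TensorProduct.commRight A₀ A R₀ ((1 : A) ⊗ₜ[A₀] a) = a ⊗ₜ[A₀] (1 : A)
        simp]
    exact (Y.asIdeal.over_def p₀').symm

/-- Killing in the two tensor products agree. -/
theorem killing_iff {A₀ R₀ T A' : Type u} [CommRing A₀] [CommRing R₀] [CommRing T] [CommRing A'] [Algebra A₀ R₀]
    [Algebra R₀ T] [Algebra A₀ T] [IsScalarTower A₀ R₀ T] [Algebra A₀ A'] (r : A' ⊗[A₀] R₀) :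
    algebraMap (A' ⊗[A₀] R₀) ((A' ⊗[A₀] R₀) ⊗[R₀] T) r = 0 ↔
      (IsScalarTower.toAlgHom A₀ R₀ T).toLinearMap.lTensor A' r = 0 := by
  let X := (A' ⊗[A₀] R₀) ⊗[R₀] T
  let m := Algebra.TensorProduct.map (AlgHom.id A₀ A') (IsScalarTower.toAlgHom A₀ R₀ T)
  have hm : (IsScalarTower.toAlgHom A₀ R₀ T).toLinearMap.lTensor A' r = m r := by
    induction r with
    | zero => simp
    | add x y hx hy => rw [map_add, map_add, hx, hy]
    | tmul a b => simp [m]
  rw [hm]
  letI : Algebra R₀ (A' ⊗[A₀] T) := ((algebraMap T (A' ⊗[A₀] T)).comp (algebraMap R₀ T)).toAlgebra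
  constructor
  · intro h
    let mR : (A' ⊗[A₀] R₀) →ₐ[R₀] A' ⊗[A₀] T :=
      { toRingHom := m.toRingHom
        commutes' := fun x => by
          show Algebra.TensorProduct.map _ _ ((1 : A') ⊗ₜ[A₀] x) = (1 : A') ⊗ₜ[A₀] algebraMap R₀ T x
          simp }
    let tR : T →ₐ[R₀] A' ⊗[A₀] T :=
      { toRingHom := algebraMap T (A' ⊗[A₀] T)
        commutes' := fun x => rfl }
    let ψ := Algebra.TensorProduct.lift mR tR fun _ _ => Commute.all _ _
    have h1 : ψ (r ⊗ₜ[R₀] (1 : T)) = m r := by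
      rw [Algebra.TensorProduct.lift_tmul, map_one, mul_one]
      rfl
    rw [← h1, show r ⊗ₜ[R₀] (1 : T) = algebraMap (A' ⊗[A₀] R₀) X r from rfl, h, map_zero]
  · intro h
    let ψ : A' ⊗[A₀] T →ₐ[A₀] X := Algebra.TensorProduct.lift
      ((IsScalarTower.toAlgHom A₀ (A' ⊗[A₀] R₀) X).comp Algebra.TensorProduct.includeLeft)
      (((Algebra.TensorProduct.includeRight : T →ₐ[R₀] X).restrictScalars A₀)) fun _ _ => Commute.all _ _
    have h1 : ψ.comp m = IsScalarTower.toAlgHom A₀ (A' ⊗[A₀] R₀) X := by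
      refine Algebra.TensorProduct.ext' fun a b => ?_
      simp only [ψ, m, Algebra.TensorProduct.map_tmul, Algebra.TensorProduct.lift_tmul, AlgHom.id_apply, AlgHom.comp_apply,
        Algebra.TensorProduct.includeLeft_apply, IsScalarTower.coe_toAlgHom', AlgHom.restrictScalars_apply,
        Algebra.TensorProduct.includeRight_apply, Algebra.TensorProduct.algebraMap_apply, Algebra.algebraMap_self, RingHom.id_apply]
      show (a ⊗ₜ[A₀] (1 : R₀)) ⊗ₜ[R₀] (1 : T) * (1 : A' ⊗[A₀] R₀) ⊗ₜ[R₀] algebraMap R₀ T b = (a ⊗ₜ[A₀] b) ⊗ₜ[R₀] (1 : T)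
      rw [Algebra.TensorProduct.tmul_mul_tmul,
        mul_one, one_mul, Algebra.algebraMap_eq_smul_one (A := T) b, ← TensorProduct.smul_tmul]
      congr 1
      rw [Algebra.smul_def, show algebraMap R₀ (A' ⊗[A₀] R₀) b = (1 : A') ⊗ₜ[A₀] b from rfl,
        Algebra.TensorProduct.tmul_mul_tmul, mul_one, one_mul]
    have h2 := AlgHom.congr_fun h1 r
    rw [AlgHom.comp_apply, h, map_zero] at h2
    exact h2.symm

section

variable {A₀ R₀ B₀ BR S₀ : Type u} [CommRing A₀] [CommRing R₀] [CommRing B₀] [CommRing BR] [CommRing S₀]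
  [Algebra A₀ R₀] [Algebra A₀ B₀] [Algebra R₀ BR] [Algebra B₀ BR] [Algebra A₀ BR] [IsScalarTower A₀ R₀ BR]
  [IsScalarTower A₀ B₀ BR] [hpo₀ : Algebra.IsPushout A₀ R₀ B₀ BR] [Algebra.FiniteType A₀ B₀]
  [Algebra BR S₀] [Algebra R₀ S₀] [IsScalarTower R₀ BR S₀]
  {N₀ : Type u} [AddCommGroup N₀] [Module B₀ N₀]
  {NR : Type u} [AddCommGroup NR] [Module BR NR] [Module B₀ NR] [IsScalarTower B₀ BR NR] [Module R₀ NR] [IsScalarTower R₀ BR NR]
  (φ : N₀ →ₗ[B₀] NR) (hφ : IsBaseChange BR φ)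
  {m : ℕ} (G : Fin m → BR)
  {A' B' N' R' : Type u} [CommRing A'] [CommRing B'] [CommRing R'] [Algebra A₀ A'] [Algebra A' B'] [Algebra B₀ B'] [Algebra A₀ B']
  [IsScalarTower A₀ A' B'] [IsScalarTower A₀ B₀ B'] [hpo' : Algebra.IsPushout A₀ A' B₀ B']
  [AddCommGroup N'] [Module B' N'] [Module B₀ N'] [IsScalarTower B₀ B' N']
  (f : N₀ →ₗ[B₀] N') (hf : IsBaseChange B' f)
  [Algebra A' R'] [Algebra R₀ R'] [Algebra A₀ R'] [htA' : IsScalarTower A₀ A' R'] [htR : IsScalarTower A₀ R₀ R']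
  (q : Ideal A') [q.IsPrime] (q' : Ideal R') [q'.IsPrime]

include hpo₀ hpo' htA' htR hφ hf in
/-- The comparison of the two base changes. -/
theorem exists_compare :
    ∃ (X M : Type u) (_ : CommRing X) (_ : Algebra R' X) (_ : Algebra BR X) (_ : Algebra R₀ X) (_ : IsScalarTower R₀ R' X)
      (_ : IsScalarTower R₀ BR X) (_ : Algebra.IsPushout R₀ R' BR X) (_ : AddCommGroup M) (_ : Module X M) (_ : Module BR M)
      (_ : IsScalarTower BR X M) (_ : Module R' M) (_ : IsScalarTower R' X M) (_ : Algebra B' X) (_ : Algebra A' X)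
      (_ : IsScalarTower A' B' X) (_ : IsScalarTower A' R' X) (_ : Module B' M) (_ : IsScalarTower B' X M)
      (h : NR →ₗ[BR] M) (g : N' →ₗ[B'] M), IsBaseChange X h ∧ Algebra.IsPushout A' B' R' X ∧ IsBaseChange X g := by
  let X := R' ⊗[R₀] BR
  let M := X ⊗[BR] NR
  letI : Algebra B₀ X := ((algebraMap BR X).comp (algebraMap B₀ BR)).toAlgebra
  haveI : IsScalarTower B₀ BR X := .of_algebraMap_eq' rfl
  haveI : IsScalarTower A₀ R₀ X := IsScalarTower.of_algebraMap_eq (R := A₀) (S := R₀) (A := X) fun a => by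
    rw [IsScalarTower.algebraMap_apply A₀ R' X, IsScalarTower.algebraMap_apply A₀ R₀ R', ← IsScalarTower.algebraMap_apply R₀ R' X]
  haveI : IsScalarTower A₀ BR X := IsScalarTower.of_algebraMap_eq (R := A₀) (S := BR) (A := X) fun a => by
    rw [IsScalarTower.algebraMap_apply A₀ R₀ BR, ← IsScalarTower.algebraMap_apply R₀ BR X, ← IsScalarTower.algebraMap_apply A₀ R₀ X]
  haveI : IsScalarTower A₀ B₀ X := IsScalarTower.of_algebraMap_eq (R := A₀) (S := B₀) (A := X) fun a => by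
    rw [IsScalarTower.algebraMap_apply B₀ BR X, ← IsScalarTower.algebraMap_apply A₀ B₀ BR, ← IsScalarTower.algebraMap_apply A₀ BR X]
  haveI : IsScalarTower A₀ A' X := IsScalarTower.of_algebraMap_eq (R := A₀) (S := A') (A := X) fun a => by
    rw [IsScalarTower.algebraMap_apply A' R' X, ← IsScalarTower.algebraMap_apply A₀ A' R', ← IsScalarTower.algebraMap_apply A₀ R' X]
  haveI : Algebra.IsPushout A₀ R' B₀ X := (Algebra.IsPushout.comp_iff A₀ R₀ B₀ BR (T := R') (T' := X)).2 inferInstance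
  let τ : B' →ₐ[A₀] X := Algebra.pushoutDesc B' (IsScalarTower.toAlgHom A₀ A' X) (IsScalarTower.toAlgHom A₀ B₀ X)
    fun _ _ => Commute.all _ _
  letI : Algebra B' X := τ.toRingHom.toAlgebra
  haveI : IsScalarTower A' B' X := .of_algebraMap_eq fun b => by
    show _ = τ (algebraMap A' B' b)
    rw [Algebra.pushoutDesc_left]
    rfl
  haveI : IsScalarTower B₀ B' X := .of_algebraMap_eq fun b => by
    show _ = τ (algebraMap B₀ B' b)
    rw [Algebra.pushoutDesc_right]
    rfl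
  haveI : Algebra.IsPushout A' R' B' X := (Algebra.IsPushout.comp_iff A₀ A' B₀ B' (T := R') (T' := X)).1 inferInstance
  haveI : IsScalarTower B₀ X M := inferInstance
  haveI : IsScalarTower B₀ BR M := .of_algebraMap_smul fun b (x : M) => by
    rw [← algebraMap_smul X (algebraMap B₀ BR b) x, ← IsScalarTower.algebraMap_apply B₀ BR X, algebraMap_smul]
  letI : Module B' M := Module.compHom _ (algebraMap B' X)
  haveI : IsScalarTower B' X M := .of_algebraMap_smul fun _ _ => rfl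
  haveI : IsScalarTower B₀ B' M := .of_algebraMap_smul fun b (x : M) => by
    show algebraMap B' X (algebraMap B₀ B' b) • x = b • x
    rw [← IsScalarTower.algebraMap_apply B₀ B' X, algebraMap_smul]
  let g₂ : N₀ →ₗ[B₀] M := ((TensorProduct.mk BR X NR 1).restrictScalars B₀) ∘ₗ φ
  have hg₂ : IsBaseChange X g₂ := IsBaseChange.comp hφ (TensorProduct.isBaseChange BR NR X)
  refine ⟨X, M, inferInstance, inferInstance, inferInstance, inferInstance, inferInstance, inferInstance, inferInstance,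
    inferInstance, inferInstance, inferInstance, inferInstance, inferInstance, inferInstance, inferInstance, inferInstance,
    inferInstance, inferInstance, inferInstance, inferInstance, TensorProduct.mk BR X NR 1, hf.lift g₂,
    TensorProduct.isBaseChange BR NR X, Algebra.IsPushout.symm inferInstance,
    IsBaseChange.of_comp hf ?_⟩
  rwa [show ((hf.lift g₂).restrictScalars B₀) ∘ₗ f = g₂ from LinearMap.ext fun x => hf.lift_eq g₂ x]

include hpo₀ hpo' htA' htR hφ hf in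
/-- In a pure situation the points below the neighbourhood's point are good. -/
theorem good_of_pure (hnhd : FlatCA.IsEtaleNhd A' R' q q') (hpure : FlatCA.IsPureAlong A' B' N' q)
    (hcov : ∀ P : Ideal BR, P.IsPrime → P.LiesOver (q'.comap (algebraMap R₀ R')) → ∃ j, G j ∉ P)
    (t : Ideal R') [t.IsPrime] (ht : t ≤ q') :
    ∀ P ∈ associatedPrimes ((t.comap (algebraMap R₀ R')).Fiber BR) (FlatCA.fiberMod (t.comap (algebraMap R₀ R')) BR NR),
      ∃ j, CAlgFib.ι (t.comap (algebraMap R₀ R')) (G j) ∉ P := by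
  obtain ⟨X, M, _, _, _, _, _, _, _, _, _, _, _, _, _, _, _, _, _, _, _, h', g, hh', hpo, hg⟩ :=
    exists_compare (A₀ := A₀) (R₀ := R₀) (A' := A') (R' := R') φ hφ f hf
  haveI := hpo
  haveI : Algebra.FiniteType R₀ BR := Algebra.FiniteType.equiv inferInstance (Algebra.IsPushout.equiv A₀ R₀ B₀ BR)
  refine good_of_notMem (BR' := X) G h' hh' t fun Q _ hQt hQ => ?_
  obtain ⟨P', hP', hQP', hP'q⟩ := PureCritLib.exists_specialization_of_pure N' hg hnhd hpure t ht Q hQt hQ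
  obtain ⟨j, hj⟩ := hcov (P'.under BR) inferInstance (liesOver_under (R₀ := R₀) (BR := BR) q' P')
  exact ⟨j, fun hm => hj (hQP' hm)⟩

include hpo₀ hpo' htA' htR hφ hf in
/-- Good points below the neighbourhood's point give universal purity. -/
theorem univPure_of_good_stage [Algebra.Etale BR S₀] [Module.Projective R₀ (S₀ ⊗[BR] NR)] [Module.Finite B₀ N₀]
    [Module.Flat A' R'] [q'.LiesOver q]
    (hG : ∀ Q : PrimeSpectrum BR, (∃ j, G j ∉ Q.asIdeal) → Q ∈ Set.range (PrimeSpectrum.comap (algebraMap BR S₀)))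
    (hgood : ∀ (t : Ideal R') [t.IsPrime], t ≤ q' → ∀ P ∈ associatedPrimes ((t.comap (algebraMap R₀ R')).Fiber BR)
      (FlatCA.fiberMod (t.comap (algebraMap R₀ R')) BR NR), ∃ j, CAlgFib.ι (t.comap (algebraMap R₀ R')) (G j) ∉ P) :
    FlatCA.IsUnivPureAlong A' B' N' q := by
  obtain ⟨X, M, _, _, _, _, _, _, _, _, _, _, _, _, _, _, _, _, _, _, _, h', g, hh', hpo, hg⟩ :=
    exists_compare (A₀ := A₀) (R₀ := R₀) (A' := A') (R' := R') φ hφ f hf
  haveI := hpo
  haveI : Algebra.FiniteType R₀ BR := Algebra.FiniteType.equiv inferInstance (Algebra.IsPushout.equiv A₀ R₀ B₀ BR)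
  haveI : Algebra.FiniteType A' B' := Algebra.FiniteType.equiv inferInstance (Algebra.IsPushout.equiv A₀ A' B₀ B')
  haveI : Module.Finite BR NR := Module.Finite.equiv hφ.equiv
  haveI : Module.Finite B' N' := Module.Finite.equiv hf.equiv
  haveI : Module.Flat R' (Localization.AtPrime q') := IsLocalization.flat _ q'.primeCompl
  haveI : Module.Flat A' (Localization.AtPrime q') := Module.Flat.trans A' R' _
  refine (PureCritLib.pure_descend N' q R' X M g hg q').2 ?_
  exact univPure_of_good (BR' := X) (S₀ := S₀) G h' hh' hG q' hgood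

end

/-- Purity along a fibre of the limit gives universal purity at some stage. -/
theorem exists_pure_stage {A₀ : Type u} [CommRing A₀] {ι : Type u} [Preorder ι] {G : ι → Type u} [∀ i, CommRing (G i)]
    [∀ i, Algebra A₀ (G i)] {g : ∀ i j, i ≤ j → G i →ₐ[A₀] G j}
    {A : Type u} [CommRing A] [Algebra A₀ A] [∀ i, Algebra (G i) A] [∀ i, IsScalarTower A₀ (G i) A]
    (hcolim : FlatCA.IsDirectedColimitRing G (fun i j h => (g i j h).toRingHom) A) (i₀ : ι)
    {B₀ : Type u} [CommRing B₀] [Algebra A₀ B₀] [Algebra.FinitePresentation A₀ B₀]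
    (N₀ : Type u) [AddCommGroup N₀] [Module B₀ N₀] [Module A₀ N₀] [IsScalarTower A₀ B₀ N₀] [Module.FinitePresentation B₀ N₀]
    {B : Type u} [CommRing B] [Algebra A B] [Algebra B₀ B] [Algebra A₀ B] [IsScalarTower A₀ A B] [IsScalarTower A₀ B₀ B]
    [Algebra.IsPushout A₀ A B₀ B]
    (N : Type u) [AddCommGroup N] [Module B N] [Module B₀ N] [IsScalarTower B₀ B N] (f : N₀ →ₗ[B₀] N) (hf : IsBaseChange B f)
    (p : Ideal A) [p.IsPrime] (hpure : FlatCA.IsPureAlong A B N p)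
    (hflat₀ : ∀ (q : Ideal B₀) [q.IsPrime], q.LiesOver (p.comap (algebraMap A₀ A)) → FlatCA.FlatAt A₀ q N₀) :
    ∃ l, i₀ ≤ l ∧ ∀ m, l ≤ m → FlatCA.IsUnivPureAlong (G m) (G m ⊗[A₀] B₀) ((G m ⊗[A₀] B₀) ⊗[B₀] N₀) (p.comap (algebraMap (G m) A)) := by
  classical
  let p₀ := p.comap (algebraMap A₀ A)
  haveI : p.LiesOver p₀ := ⟨rfl⟩
  obtain ⟨R₀, S₀, _, _, _, _, _, _, _, _, p₀', hp', hR₀, hS₀, hcov, hproj⟩ := DevLib.exists_projective_cover N₀ p₀ hflat₀
  haveI := hp'
  haveI := hS₀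
  haveI := hR₀.1
  haveI := hR₀.2.1
  have hres := hR₀.2.2
  let BR := R₀ ⊗[A₀] B₀
  let NR := BR ⊗[B₀] N₀
  letI : Algebra BR S₀ := (Algebra.TensorProduct.lift (IsScalarTower.toAlgHom A₀ R₀ S₀) (IsScalarTower.toAlgHom A₀ B₀ S₀)
    fun _ _ => Commute.all _ _).toRingHom.toAlgebra
  haveI : IsScalarTower R₀ BR S₀ := IsScalarTower.of_algebraMap_eq (R := R₀) (S := BR) (A := S₀) fun r => by
    show _ = Algebra.TensorProduct.lift _ _ _ (r ⊗ₜ[A₀] (1 : B₀))
    simp
  haveI : IsScalarTower B₀ BR S₀ := IsScalarTower.of_algebraMap_eq (R := B₀) (S := BR) (A := S₀) fun r => by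
    show _ = Algebra.TensorProduct.lift _ _ _ ((1 : R₀) ⊗ₜ[A₀] r)
    simp
  haveI : Algebra.Etale B₀ BR := Algebra.Etale.of_equiv (Algebra.TensorProduct.commRight A₀ B₀ R₀)
  haveI : Algebra.Etale BR S₀ := Algebra.Etale.of_restrictScalars B₀ BR S₀
  have hφ := TensorProduct.isBaseChange B₀ N₀ BR
  haveI : Module.Projective R₀ (S₀ ⊗[BR] NR) :=
    Module.Projective.of_equiv ((AlgebraTensorModule.cancelBaseChange B₀ BR S₀ S₀ N₀).restrictScalars R₀).symm
  -- the image of the cover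
  let U : Set (PrimeSpectrum BR) := Set.range (PrimeSpectrum.comap (algebraMap BR S₀))
  have hUo : IsOpen U := PrimeSpectrum.isOpenMap_comap_of_hasGoingDown_of_finitePresentation.isOpen_range
  have hUc : IsCompact U := isCompact_range (PrimeSpectrum.continuous_comap _)
  have hb : ∀ x : U, ∃ c : BR, c ∉ x.1.asIdeal ∧ (PrimeSpectrum.basicOpen c : Set (PrimeSpectrum BR)) ⊆ U := fun x => by
    obtain ⟨_, ⟨c, rfl⟩, hc, hsub⟩ := PrimeSpectrum.isTopologicalBasis_basic_opens.exists_subset_of_mem_open x.2 hUo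
    exact ⟨c, hc, hsub⟩
  choose c hc hcsub using hb
  obtain ⟨fs, hfs⟩ := hUc.elim_finite_subcover (fun x : U => (PrimeSpectrum.basicOpen (c x) : Set (PrimeSpectrum BR)))
    (fun x => (PrimeSpectrum.basicOpen (c x)).2) fun x hx => Set.mem_iUnion.2 ⟨⟨x, hx⟩, hc ⟨x, hx⟩⟩
  let Gs : Fin fs.card → BR := fun i => c (fs.equivFin.symm i).1
  have hG : ∀ Q : PrimeSpectrum BR, (∃ j, Gs j ∉ Q.asIdeal) → Q ∈ U := fun Q ⟨j, hj⟩ => hcsub _ hj
  have hcovG : ∀ P : Ideal BR, P.IsPrime → P.LiesOver p₀' → ∃ j, Gs j ∉ P := fun P hP hPp => by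
    haveI := hP
    haveI := hPp
    have hq : (P.comap (algebraMap B₀ BR)).LiesOver p₀ := ⟨by
      rw [Ideal.under_def, Ideal.comap_comap, ← IsScalarTower.algebraMap_eq, IsScalarTower.algebraMap_eq A₀ R₀ BR,
        ← Ideal.comap_comap]
      exact (p₀'.over_def p₀).trans (congrArg (Ideal.comap (algebraMap A₀ R₀)) (P.over_def p₀'))⟩
    obtain ⟨y, hy, hyq, hyp⟩ := hcov _ hq
    haveI := hy
    haveI : (y.comap (algebraMap BR S₀)).LiesOver p₀' := ⟨by
      rw [Ideal.under_def, Ideal.comap_comap, ← IsScalarTower.algebraMap_eq]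
      exact hyp.over⟩
    have heq : y.comap (algebraMap BR S₀) = P :=
      DevLib.eq_of_pushout (R := A₀) (A := R₀) (S := B₀) (DevissLib.fracMod_of_bijective p₀ p₀' hres) _ P
        (by rw [Ideal.comap_comap, ← IsScalarTower.algebraMap_eq, hyq])
    obtain ⟨x, hx⟩ := Set.mem_iUnion.1 (hfs (show (⟨P, hP⟩ : PrimeSpectrum BR) ∈ U from ⟨⟨y, hy⟩, PrimeSpectrum.ext heq⟩))
    obtain ⟨hxs, hxQ⟩ := Set.mem_iUnion.1 hx
    exact ⟨fs.equivFin ⟨x, hxs⟩, by simpa [Gs] using hxQ⟩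
  -- the bad set as an image
  haveI : Algebra.IsPushout A₀ R₀ B₀ BR := inferInstance
  obtain ⟨T, _, θ, hθ⟩ := PrimeSpectrum.exists_range_eq_of_isConstructible
    (PureCritLib.isConstructible_assAvoid (A := R₀) (S := BR) NR Gs).compl
  letI : Algebra R₀ T := θ.toAlgebra
  letI : Algebra A₀ T := ((algebraMap R₀ T).comp (algebraMap A₀ R₀)).toAlgebra
  haveI : IsScalarTower A₀ R₀ T := .of_algebraMap_eq' rfl
  -- the limit
  obtain ⟨p', hp'p, hnhd, hp'₀⟩ := exists_etaleNhd_tensor hR₀ p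
  haveI := hp'p
  haveI := hnhd.2.1
  obtain ⟨s, hs, hs0⟩ := exists_killing (T := T) p' fun t _ htp y hy => by
    have h1 : PrimeSpectrum.comap θ y ∈ _ := hθ.le ⟨y, rfl⟩
    refine h1 ?_
    rw [show PrimeSpectrum.comap θ y = ⟨t.comap (algebraMap R₀ (A ⊗[A₀] R₀)), inferInstance⟩ from PrimeSpectrum.ext hy]
    exact good_of_pure (A₀ := A₀) (TensorProduct.mk B₀ BR N₀ 1) hφ Gs f hf p p' hnhd hpure (by rw [hp'₀]; exact hcovG) t htp
  -- the stage
  let Sys := FlatStage.sysOfDirected hcolim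
  obtain ⟨k, hk, a, ha⟩ := Sys.exists_lift (M := R₀) i₀ s
  let T₁ := (IsScalarTower.toAlgHom A₀ R₀ T).toLinearMap
  have hcomm : ∀ {C D : Type u} [CommRing C] [Algebra A₀ C] [CommRing D] [Algebra A₀ D] (χ : C →ₐ[A₀] D) (z : C ⊗[A₀] R₀),
      χ.toLinearMap.rTensor T (T₁.lTensor C z) = T₁.lTensor D (χ.toLinearMap.rTensor R₀ z) := by
    intro C D _ _ _ _ χ z
    induction z with
    | zero => simp
    | add x y hx hy => simp only [map_add, hx, hy]
    | tmul c r => simp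
  obtain ⟨l, hkl, hl0⟩ := Sys.exists_zero (M := T) k (T₁.lTensor _ a) (by
    rw [hcomm, ha]
    exact (killing_iff s).1 hs0)
  rw [hcomm] at hl0
  dsimp only [Sys, FlatStage.sysOfDirected] at k l hk hkl a ha hl0
  refine ⟨l, hk.down.down.trans hkl.down.down, fun n hln => ?_⟩
  have hkn : k ≤ n := hkl.down.down.trans hln
  have hn0 : T₁.lTensor (G n) ((g k n hkn).toLinearMap.rTensor R₀ a) = 0 := by
    have hg : g k n hkn = (g l n hln).comp (g k l hkl.down.down) :=
      AlgHom.ext fun x => (RingHom.congr_fun (hcolim.2.2.2.1 k l n hkl.down.down hln) x).symm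
    rw [← hcomm, hg, AlgHom.comp_toLinearMap, LinearMap.rTensor_comp, LinearMap.comp_apply, hcomm, hcomm,
      show T₁.lTensor (G n) ((g l n hln).toLinearMap.rTensor R₀ ((g k l hkl.down.down).toLinearMap.rTensor R₀ a)) = 0 from by
        rw [← hcomm, hl0, map_zero]]
  let ρ : G n ⊗[A₀] R₀ →ₐ[A₀] A ⊗[A₀] R₀ :=
    Algebra.TensorProduct.map (IsScalarTower.toAlgHom A₀ (G n) A) (AlgHom.id A₀ R₀)
  let sl : G n ⊗[A₀] R₀ := (g k n hkn).toLinearMap.rTensor R₀ a
  have hsl : ρ sl = s := by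
    rw [← ha]
    show ρ ((g k n hkn).toLinearMap.rTensor R₀ a) = (IsScalarTower.toAlgHom A₀ (G k) A).toLinearMap.rTensor R₀ a
    clear hl0 hn0 ha
    induction a with
    | zero => simp
    | add x y hx hy => simp only [map_add, hx, hy]
    | tmul c r =>
      simp [ρ, show algebraMap (G n) A (g k n hkn c) = algebraMap (G k) A c from
        RingHom.congr_fun (hcolim.2.2.2.2.1 k n hkn) c]
  let q' : Ideal (G n ⊗[A₀] R₀) := p'.comap ρ.toRingHom
  haveI : q'.LiesOver (p.comap (algebraMap (G n) A)) := ⟨by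
    show p.comap (algebraMap (G n) A) = (p'.comap ρ.toRingHom).comap (algebraMap (G n) (G n ⊗[A₀] R₀))
    rw [p'.over_def p, Ideal.under_def, Ideal.comap_comap, Ideal.comap_comap]
    congr 1⟩
  refine univPure_of_good_stage (A₀ := A₀) (R₀ := R₀) (S₀ := S₀) (A' := G n) (R' := G n ⊗[A₀] R₀) (TensorProduct.mk B₀ BR N₀ 1) hφ Gs (TensorProduct.mk B₀ (G n ⊗[A₀] B₀) N₀ 1)
    (TensorProduct.isBaseChange B₀ N₀ _) _ q' hG fun t _ htq => ?_
  have hst : sl ∉ t := fun hm => hs (by rw [← hsl]; exact htq hm)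
  by_contra hbad
  obtain ⟨y, hy⟩ := hθ.ge (show (⟨t.comap (algebraMap R₀ (G n ⊗[A₀] R₀)), inferInstance⟩ : PrimeSpectrum R₀) ∈ _ from hbad)
  exact ne_of_killing ((killing_iff sl).2 hn0) t hst y (congrArg PrimeSpectrum.asIdeal hy)

end Groth.Agent.PureColimLib
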